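import Groth.Agent.Pi1.H384.SplitCover
import Groth.Agent.Pi1.H384.SplitBasic
import Groth.Agent.Pi1.H384.GeomConn
import Groth.Agent.Pi1B.FEtPreGalois
import Groth.Agent.Pi1B.FEtExact
import Groth.Agent.JacVar.K532.Base
import Groth.Agent.S0265
import Groth.Agent.S3682

/-!
# Finite étale covers of a product `A × B` with `B` proper become constant over a cover of `B`
-/

set_option autoImplicit false
universe u
open CategoryTheory CategoryTheory.Limits AlgebraicGeometry
open Groth.Agent Groth.Agent.Pi1.H384.SplitCover Groth.Agent.Pi1.H384.SplitBasic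
open Groth.Agent.Pi1A.FEtAffine

namespace K105.ProdCover

/-- A nonempty subobject of a split cover of a connected scheme has a section. -/
theorem exists_section {X : Scheme.{u}} [ConnectedSpace X] {T E : FEt.Cat X} (m : T ⟶ E) [Mono m]
    (hE : Pi1.IsSplit E) [hT : Nonempty T.left] : ∃ σ : X ⟶ T.left, σ ≫ T.hom = 𝟙 X := by
  have hoi : IsOpenImmersion m.left := Groth.Agent.Pi1B.FEtPreGalois.isOpenImmersion_left_of_mono m
  have hfin : IsFinite m.left := (Groth.Agent.Pi1B.FEtPreGalois.prop_left m).1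
  obtain ⟨ι, hι, e, he⟩ := hE
  obtain ⟨t⟩ := hT
  obtain ⟨i, x, hx⟩ : ∃ (i : ι) (x : X), Sigma.ι (fun _ : ι => X) i x = e.hom (m.left t) :=
    (sigmaOpenCover (fun _ : ι => X)).exists_eq (e.hom (m.left t))
  let s : X ⟶ E.left := Sigma.ι (fun _ : ι => X) i ≫ e.inv
  have hs : s ≫ E.hom = 𝟙 X := by
    simp only [s, Category.assoc]
    exact he i
  have hsx : s x = m.left t := by
    simp only [s, Scheme.Hom.comp_apply, hx]
    rw [← Scheme.Hom.comp_apply, Iso.hom_inv_id]
    rfl
  have hcl : IsClopen (s ⁻¹' (Set.range m.left)) := by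
    refine IsClopen.preimage ⟨?_, ?_⟩ s.continuous
    · rw [← Set.image_univ]; exact m.left.isClosedMap _ isClosed_univ
    · exact m.left.isOpenEmbedding.isOpen_range
  have huniv := hcl.eq_univ ⟨x, ⟨t, hsx.symm⟩⟩
  have hr : Set.range s ⊆ Set.range m.left := by
    rintro _ ⟨y, rfl⟩
    have : y ∈ s ⁻¹' (Set.range m.left) := by rw [huniv]; trivial
    exact this
  refine ⟨IsOpenImmersion.lift m.left s hr, ?_⟩
  have h1 : m.left ≫ E.hom = T.hom := MorphismProperty.Over.w m
  rw [← h1, IsOpenImmersion.lift_fac_assoc]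
  exact hs

/-- A cover is in the essential image of the restriction functor if all its connected components
are. -/
theorem essImage_of_components {X S : Scheme.{u}} (f : X ⟶ S) [ConnectedSpace X] (E : FEt.Cat X)
    (h : ∀ (T : FEt.Cat X) (m : T ⟶ E) (_ : Mono m) (_ : ConnectedSpace T.left),
      (FEt.restrict f).essImage T) : (FEt.restrict f).essImage E := by
  have hGC := galoisCategory X
  obtain ⟨ι, F, g, hc, hconn, hfin⟩ := PreGaloisCategory.has_decomp_connected_components E
  have hF : ∀ i, (FEt.restrict f).essImage (F i) := by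
    intro i
    have := hconn i
    refine h (F i) (g i) ?_ (connectedSpace_left (F i))
    exact MonoCoprod.mono_inj _ (Cofan.mk E g) hc i
  choose Y hY using hF
  have e : ∀ i, (FEt.restrict f).obj (Y i) ≅ F i := fun i => (hY i).some
  let e₁ : E ≅ ∐ F := hc.coconePointUniqueUpToIso (coproductIsCoproduct F)
  let e₂ : (∐ fun i => (FEt.restrict f).obj (Y i)) ≅ ∐ F := Sigma.mapIso e
  let e₃ : (FEt.restrict f).obj (∐ Y) ≅ ∐ fun i => (FEt.restrict f).obj (Y i) :=
    PreservesCoproduct.iso (FEt.restrict f) Y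
  exact ⟨∐ Y, ⟨e₃ ≪≫ e₂ ≪≫ e₁.symm⟩⟩

variable {k : Type u} [Field k] [IsAlgClosed k] {A B B₁ : Scheme.{u}}
    (pA : A ⟶ Spec (CommRingCat.of k)) (pB : B ⟶ Spec (CommRingCat.of k)) (β : B₁ ⟶ B)

/-- The base change map `A × B₁ ⟶ A × B`. -/
noncomputable abbrev mapB : pullback pA (β ≫ pB) ⟶ pullback pA pB :=
  pullback.map pA (β ≫ pB) pA pB (𝟙 A) β (𝟙 _)
    ((Category.comp_id _).trans (Category.id_comp _).symm) (Category.comp_id _)

theorem connectedSpace_prod {k : Type u} [Field k] [IsAlgClosed k] {A B : Scheme.{u}}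
    (pA : A ⟶ Spec (CommRingCat.of k)) (pB : B ⟶ Spec (CommRingCat.of k)) [IsLocallyNoetherian A]
    [ConnectedSpace A] [IsProper pB] [ConnectedSpace B] : ConnectedSpace ↥(pullback pA pB) := by
  let oA : FEt.Cat A := MorphismProperty.Over.mk ⊤ (𝟙 A) ⟨inferInstance, inferInstance⟩
  let oB : FEt.Cat B := MorphismProperty.Over.mk ⊤ (𝟙 B) ⟨inferInstance, inferInstance⟩
  have h1 : ConnectedSpace oA.left := inferInstanceAs (ConnectedSpace A)
  have h2 : ConnectedSpace oB.left := inferInstanceAs (ConnectedSpace B)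
  have h3 : ConnectedSpace ↥(pullback (𝟙 B ≫ pB) (𝟙 A ≫ pA)) :=
    Groth.Agent.S3682.result k pB pA oB oA
  rw [Category.id_comp, Category.id_comp] at h3
  exact (pullbackSymmetry pB pA).hom.homeomorph.surjective.connectedSpace
    (pullbackSymmetry pB pA).hom.continuous

theorem exists_const_aux [IsLocallyNoetherian A] [ConnectedSpace A] [IsProper pB] [Smooth pB]
    [ConnectedSpace B₁] [IsFinite β] [Etale β] (a : Spec (CommRingCat.of k) ⟶ A)
    (ha : a ≫ pA = 𝟙 _) (E : FEt.Cat (pullback pA pB)) (sa : B ⟶ pullback pA pB)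
    (hsa : sa ≫ pullback.fst pA pB = pB ≫ a) (hsa' : sa ≫ pullback.snd pA pB = 𝟙 B)
    (hsplit : Pi1.IsSplit ((FEt.restrict β).obj ((FEt.restrict sa).obj E))) :
    (FEt.restrict (pullback.fst pA (β ≫ pB))).essImage ((FEt.restrict (mapB pA pB β)).obj E) := by
  let p' : B₁ ⟶ Spec (CommRingCat.of k) := β ≫ pB
  have hp'1 : IsProper p' := inferInstanceAs (IsProper (β ≫ pB))
  have hp'2 : Smooth p' := inferInstanceAs (Smooth (β ≫ pB))
  let f : pullback pA p' ⟶ A := pullback.fst pA p'
  let m : pullback pA p' ⟶ pullback pA pB := mapB pA pB β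
  have hm1 : m ≫ pullback.fst pA pB = pullback.fst pA p' :=
    (pullback.lift_fst _ _ _).trans (Category.comp_id _)
  have hm2 : m ≫ pullback.snd pA pB = pullback.snd pA p' ≫ β := pullback.lift_snd _ _ _
  let s' : B₁ ⟶ pullback pA p' := pullback.lift (p' ≫ a) (𝟙 _) (by simp [ha])
  have hs'1 : s' ≫ pullback.fst pA p' = p' ≫ a := pullback.lift_fst _ _ _
  have hs'2 : s' ≫ pullback.snd pA p' = 𝟙 _ := pullback.lift_snd _ _ _
  have hs' : s' ≫ m = β ≫ sa := by
    apply pullback.hom_ext
    · rw [Category.assoc, hm1, hs'1, Category.assoc β sa, hsa]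
      exact Category.assoc _ _ _
    · rw [Category.assoc, hm2, reassoc_of% hs'2, Category.assoc, hsa', Category.comp_id]
  let E' : FEt.Cat (pullback pA p') := (FEt.restrict m).obj E
  have hE' : Pi1.IsSplit ((FEt.restrict s').obj E') := by
    refine isSplit_of_iso (T := (FEt.restrict β).obj ((FEt.restrict sa).obj E)) ?_ hsplit
    exact ((restrictComp β sa).app E).symm ≪≫ (restrictCongr hs'.symm).app E ≪≫
      (restrictComp s' m).app E
  -- connectedness
  have hgc : GeometricallyConnected p' := Groth.Agent.Pi1.H384.GeomConn.geometricallyConnected p'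
  have hgi : GeometricallyIntegral p' := K532.Base.geometricallyIntegral p'
  have hW : ConnectedSpace ↥(pullback pA p') := connectedSpace_prod pA p'
  change (FEt.restrict f).essImage E'
  apply essImage_of_components f E'
  intro T t ht hT
  have hmono : Mono ((FEt.restrict s').map t) := inferInstance
  obtain ⟨τ, hτ⟩ : ∃ τ : B₁ ⟶ T.left, τ ≫ T.hom = s' := by
    let h : T.left ⟶ pullback pA p' := T.hom
    have hne : Nonempty ((FEt.restrict s').obj T).left := by
      have hTs : Surjective h := surjective_hom T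
      obtain ⟨b⟩ : Nonempty B₁ := inferInstance
      obtain ⟨z, hz⟩ := (inferInstance : Surjective (pullback.snd h s')).surj b
      exact ⟨z⟩
    obtain ⟨σ₀, hσ₀⟩ := exists_section ((FEt.restrict s').map t) hE'
    let σ₁ : B₁ ⟶ pullback h s' := σ₀
    have h1 : σ₁ ≫ pullback.snd h s' = 𝟙 _ := hσ₀
    refine ⟨σ₁ ≫ pullback.fst h s', ?_⟩
    change (σ₁ ≫ pullback.fst h s') ≫ h = s'
    rw [Category.assoc, pullback.condition, reassoc_of% h1]
  let r : pullback f a ⟶ B₁ := pullback.fst f a ≫ pullback.snd pA p'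
  have hr : r ≫ s' = pullback.fst f a := by
    have h1 : r ≫ p' = pullback.snd f a := by
      rw [show r ≫ p' = pullback.fst f a ≫ f ≫ pA by
        simp only [r, f, Category.assoc, pullback.condition], pullback.condition_assoc, ha,
        Category.comp_id]
    apply pullback.hom_ext
    · rw [Category.assoc, hs'1, ← Category.assoc, h1]
      exact pullback.condition.symm
    · rw [Category.assoc, hs'2, Category.comp_id]
  refine Groth.Agent.S0265.result f ?_ T k a (r ≫ τ) ?_
  · intro Ω _ _ s
    have h1 : GeometricallyIntegral f := inferInstance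
    have h2 : IsIntegral (pullback f s) :=
      h1.geometrically_isIntegral s _ _ (IsPullback.of_hasPullback f s)
    exact ⟨inferInstance, inferInstance⟩
  · rw [Category.assoc, ← hr]
    exact congrArg (r ≫ ·) hτ

/-- **Künneth for covers.** `A` connected locally Noetherian with a rational point, `B` proper and
smooth over an algebraically closed field: every finite étale cover of `A × B` becomes the pullback
of a finite étale cover of `A` over a connected finite étale cover of `B`. -/
theorem exists_const {k : Type u} [Field k] [IsAlgClosed k] {A B : Scheme.{u}}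
    (pA : A ⟶ Spec (CommRingCat.of k)) (pB : B ⟶ Spec (CommRingCat.of k)) [IsLocallyNoetherian A]
    [ConnectedSpace A] [IsProper pB] [Smooth pB] [ConnectedSpace B]
    (a : Spec (CommRingCat.of k) ⟶ A) (ha : a ≫ pA = 𝟙 _) (E : FEt.Cat (pullback pA pB)) :
    ∃ (B₁ : Scheme.{u}) (β : B₁ ⟶ B) (_ : IsFinite β) (_ : Etale β) (_ : Surjective β)
      (_ : ConnectedSpace B₁) (YA : FEt.Cat A),
      Nonempty ((FEt.restrict (pullback.fst pA (β ≫ pB))).obj YA ≅
        (FEt.restrict (mapB pA pB β)).obj E) := by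
  let sa : B ⟶ pullback pA pB := pullback.lift (pB ≫ a) (𝟙 B) (by simp [ha])
  obtain ⟨B', -, hconn, hsurj, hsplit⟩ := exists_split ((FEt.restrict sa).obj E)
  have hβ1 : IsFinite B'.hom := B'.prop.1
  have hβ2 : Etale B'.hom := B'.prop.2
  let β : B'.left ⟶ B := B'.hom
  obtain ⟨YA, ⟨e⟩⟩ := exists_const_aux (B₁ := B'.left) pA pB β a ha E sa
    (pullback.lift_fst _ _ _) (pullback.lift_snd _ _ _) hsplit
  exact ⟨B'.left, β, hβ1, hβ2, hsurj, hconn, YA, ⟨e⟩⟩

end K105.ProdCover
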