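import Groth.Agent.BranchVar.K105.NormGlue
import Groth.Agent.BranchVar.K105.ProdCover

/-!
# Assembly of the constant normalization
-/

set_option autoImplicit false
universe u
open CategoryTheory CategoryTheory.Limits AlgebraicGeometry
open Groth.Agent Groth.Agent.Pi1A.FEtAffine

namespace K105.Assemble

/-- The base change map `Y × B ⟶ P × B`. -/
noncomputable abbrev mapA {T Y P B : Scheme.{u}} (q : Y ⟶ P) (a : P ⟶ T) (b : B ⟶ T) :
    pullback (q ≫ a) b ⟶ pullback a b :=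
  pullback.map (q ≫ a) b a b q (𝟙 B) (𝟙 _) (Category.comp_id _)
    ((Category.comp_id _).trans (Category.id_comp _).symm)

@[reassoc]
theorem mapA_fst {T Y P B : Scheme.{u}} (q : Y ⟶ P) (a : P ⟶ T) (b : B ⟶ T) :
    mapA q a b ≫ pullback.fst a b = pullback.fst (q ≫ a) b ≫ q :=
  pullback.lift_fst _ _ _

@[reassoc]
theorem mapA_snd {T Y P B : Scheme.{u}} (q : Y ⟶ P) (a : P ⟶ T) (b : B ⟶ T) :
    mapA q a b ≫ pullback.snd a b = pullback.snd (q ≫ a) b :=
  (pullback.lift_snd _ _ _).trans (Category.comp_id _)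

@[reassoc]
theorem mapB_fst {k : Type u} [Field k] {A B B₁ : Scheme.{u}}
    (pA : A ⟶ Spec (CommRingCat.of k)) (pB : B ⟶ Spec (CommRingCat.of k)) (β : B₁ ⟶ B) :
    ProdCover.mapB pA pB β ≫ pullback.fst pA pB = pullback.fst pA (β ≫ pB) :=
  (pullback.lift_fst _ _ _).trans (Category.comp_id _)

@[reassoc]
theorem mapB_snd {k : Type u} [Field k] {A B B₁ : Scheme.{u}}
    (pA : A ⟶ Spec (CommRingCat.of k)) (pB : B ⟶ Spec (CommRingCat.of k)) (β : B₁ ⟶ B) :
    ProdCover.mapB pA pB β ≫ pullback.snd pA pB = pullback.snd pA (β ≫ pB) ≫ β :=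
  pullback.lift_snd _ _ _

theorem isPullback_mapA {T Y P B : Scheme.{u}} (q : Y ⟶ P) (a : P ⟶ T) (b : B ⟶ T) :
    IsPullback (pullback.fst (q ≫ a) b) (mapA q a b) q (pullback.fst a b) := by
  have h1 : IsPullback (pullback.snd a b) (pullback.fst a b) b a :=
    (IsPullback.of_hasPullback a b).flip
  have h2 : IsPullback (pullback.snd (q ≫ a) b) (pullback.fst (q ≫ a) b) b (q ≫ a) :=
    (IsPullback.of_hasPullback (q ≫ a) b).flip
  refine (IsPullback.of_right (h₁₁ := mapA q a b) (h₁₂ := pullback.snd a b) ?_ ?_ h1).flip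
  · rw [show mapA q a b ≫ pullback.snd a b = pullback.snd (q ≫ a) b from
      (pullback.lift_snd _ _ _).trans (Category.comp_id _)]
    exact h2
  · exact pullback.lift_fst _ _ _

/-- The cartesian square of `mapB`. -/
theorem isPullback_mapB {k : Type u} [Field k] {A B B₁ : Scheme.{u}}
    (pA : A ⟶ Spec (CommRingCat.of k)) (pB : B ⟶ Spec (CommRingCat.of k)) (β : B₁ ⟶ B) :
    IsPullback (ProdCover.mapB pA pB β) (pullback.snd pA (β ≫ pB)) (pullback.snd pA pB) β := by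
  have h1 : IsPullback (pullback.fst pA pB) (pullback.snd pA pB) pA pB :=
    IsPullback.of_hasPullback _ _
  have h2 : IsPullback (pullback.fst pA (β ≫ pB)) (pullback.snd pA (β ≫ pB)) pA (β ≫ pB) :=
    IsPullback.of_hasPullback _ _
  refine IsPullback.of_right (h₁₁ := ProdCover.mapB pA pB β) (h₁₂ := pullback.fst pA pB) ?_ ?_ h1
  · rw [show ProdCover.mapB pA pB β ≫ pullback.fst pA pB = pullback.fst pA (β ≫ pB) from
      (pullback.lift_fst _ _ _).trans (Category.comp_id _)]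
    exact h2
  · exact pullback.lift_snd _ _ _

theorem exists_u {PB X WW W1 A S X' : Scheme.{u}} (f : X ⟶ PB) (j0 : WW ⟶ PB) (D0 : WW.Opens)
    (m : W1 ⟶ WW) (pr : W1 ⟶ A) (YA : FEt.Cat A) (E : FEt.Cat WW) (E₀ : FEt.Cat D0.toScheme)
    (x₀ : E₀.left ⟶ X) (hx₀ : IsPullback x₀ E₀.hom f (D0.ι ≫ j0))
    (e0 : (FEt.restrict D0.ι).obj E ≅ E₀) (e : (FEt.restrict pr).obj YA ≅ (FEt.restrict m).obj E)
    (mS : S ⟶ PB) (j1 : W1 ⟶ S) (hj : j1 ≫ mS = m ≫ j0) (fX : X' ⟶ X) (t : X' ⟶ S)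
    (ht : IsPullback fX t f mS) :
    ∃ u : pullback (pullback.snd YA.hom pr) (m ⁻¹ᵁ D0).ι ⟶ X',
      IsPullback u (pullback.snd (pullback.snd YA.hom pr) (m ⁻¹ᵁ D0).ι) t ((m ⁻¹ᵁ D0).ι ≫ j1) := by
  have hm : (m ⁻¹ᵁ D0).ι ≫ m = (m ∣_ D0) ≫ D0.ι := (morphismRestrict_ι m D0).symm
  let Φ : (FEt.restrict (m ⁻¹ᵁ D0).ι).obj ((FEt.restrict pr).obj YA) ≅
      (FEt.restrict (m ∣_ D0)).obj E₀ :=
    (FEt.restrict (m ⁻¹ᵁ D0).ι).mapIso e ≪≫ ((restrictComp (m ⁻¹ᵁ D0).ι m).app E).symm ≪≫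
      (restrictCongr hm).app E ≪≫ (restrictComp (m ∣_ D0) D0.ι).app E ≪≫
      (FEt.restrict (m ∣_ D0)).mapIso e0
  let v : pullback (pullback.snd YA.hom pr) (m ⁻¹ᵁ D0).ι ≅ pullback E₀.hom (m ∣_ D0) :=
    (MorphismProperty.Over.forget _ _ _ ⋙ Over.forget _).mapIso Φ
  have hv : v.hom ≫ pullback.snd _ _ = pullback.snd _ _ := Over.w Φ.hom.hom
  have h1 : IsPullback (pullback.fst E₀.hom (m ∣_ D0) ≫ x₀) (pullback.snd E₀.hom (m ∣_ D0)) f
      ((m ∣_ D0) ≫ D0.ι ≫ j0) := (IsPullback.of_hasPullback _ _).paste_horiz hx₀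
  have h2 : IsPullback (v.hom ≫ pullback.fst E₀.hom (m ∣_ D0) ≫ x₀)
      (pullback.snd (pullback.snd YA.hom pr) (m ⁻¹ᵁ D0).ι) f (((m ⁻¹ᵁ D0).ι ≫ j1) ≫ mS) := by
    rw [Category.assoc, hj, reassoc_of% hm]
    refine h1.of_iso v.symm (Iso.refl _) (Iso.refl _) (Iso.refl _) ?_ ?_ ?_ ?_
    · simp
    · simp only [Iso.symm_hom, Iso.refl_hom, Category.comp_id]
      rw [← hv, Iso.inv_hom_id_assoc]
    · simp
    · simp
  refine ⟨ht.lift (v.hom ≫ pullback.fst E₀.hom (m ∣_ D0) ≫ x₀)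
    (pullback.snd (pullback.snd YA.hom pr) (m ⁻¹ᵁ D0).ι ≫ (m ⁻¹ᵁ D0).ι ≫ j1) ?_, ?_⟩
  · rw [h2.w, Category.assoc, Category.assoc, Category.assoc]
  · refine IsPullback.of_right (h₁₂ := fX) ?_ (ht.lift_snd _ _ _) ht
    rw [ht.lift_fst]
    exact h2

theorem isFinite_of_comp {X Y Z : Scheme.{u}} (f : X ⟶ Y) (g : Y ⟶ Z) [IsFinite (f ≫ g)]
    [IsSeparated g] : IsFinite f :=
  MorphismProperty.of_postcomp (W := @IsFinite) (W' := @IsSeparated) f g inferInstance inferInstance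

/-- The main assembly. -/
theorem assemble {k : Type u} [Field k] {P B B₁ X : Scheme.{u}}
    (a : P ⟶ Spec (CommRingCat.of k)) (b : B ⟶ Spec (CommRingCat.of k)) (β : B₁ ⟶ B)
    [Smooth (β ≫ b)] (f : X ⟶ pullback a b) [IsFinite f] (A : P.Opens) [QuasiCompact A.ι]
    (D0 : (pullback (A.ι ≫ a) b).Opens) (E : FEt.Cat (pullback (A.ι ≫ a) b))
    (E₀ : FEt.Cat D0.toScheme) (x₀ : E₀.left ⟶ X)
    (hx₀ : IsPullback x₀ E₀.hom f (D0.ι ≫ mapA A.ι a b))
    (e0 : (FEt.restrict D0.ι).obj E ≅ E₀) (YA : FEt.Cat A.toScheme)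
    (e : (FEt.restrict (pullback.fst (A.ι ≫ a) (β ≫ b))).obj YA ≅
      (FEt.restrict (ProdCover.mapB (A.ι ≫ a) b β)).obj E)
    (F : YA.left ⟶ P) (hF : YA.hom ≫ A.ι = F) [QuasiCompact F] [QuasiSeparated F]
    [QuasiCompact (ProdCover.mapB (A.ι ≫ a) b β ⁻¹ᵁ D0).ι]
    [IsIso (ProdCover.mapB (A.ι ≫ a) b β ⁻¹ᵁ D0).ι.fromNormalization]
    [IsFinite F.fromNormalization] :
    ∃ ν : pullback (F.fromNormalization ≫ a) (β ≫ b) ⟶ pullback (f ≫ pullback.snd a b) β,
      IsFinite ν ∧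
      ν ≫ pullback.fst (f ≫ pullback.snd a b) β ≫ f ≫ pullback.fst a b =
        pullback.fst (F.fromNormalization ≫ a) (β ≫ b) ≫ F.fromNormalization ∧
      ν ≫ pullback.snd (f ≫ pullback.snd a b) β = pullback.snd (F.fromNormalization ≫ a) (β ≫ b) ∧
      ∃ V : (pullback (f ≫ pullback.snd a b) β).Opens,
        (∀ x, f (pullback.fst (f ≫ pullback.snd a b) β x) ∈
          Set.range (D0.ι ≫ mapA A.ι a b) → x ∈ V) ∧
        Dense ((ν ⁻¹ᵁ V : (pullback (F.fromNormalization ≫ a) (β ≫ b)).Opens) :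
          Set ↥(pullback (F.fromNormalization ≫ a) (β ≫ b))) ∧
        IsIso (ν ∣_ V) := by
  let m : pullback (A.ι ≫ a) (β ≫ b) ⟶ pullback (A.ι ≫ a) b := ProdCover.mapB (A.ι ≫ a) b β
  let pr : pullback (A.ι ≫ a) (β ≫ b) ⟶ A := pullback.fst (A.ι ≫ a) (β ≫ b)
  let mS : pullback a (β ≫ b) ⟶ pullback a b := ProdCover.mapB a b β
  let j0 : pullback (A.ι ≫ a) b ⟶ pullback a b := mapA A.ι a b
  let j1 : pullback (A.ι ≫ a) (β ≫ b) ⟶ pullback a (β ≫ b) := mapA A.ι a (β ≫ b)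
  have hj : j1 ≫ mS = m ≫ j0 := by
    apply pullback.hom_ext
    · simp only [j1, mS, m, j0, Category.assoc]
      rw [mapB_fst, mapA_fst, mapA_fst, mapB_fst_assoc]
    · simp only [j1, mS, m, j0, Category.assoc]
      rw [mapB_snd, mapA_snd, mapB_snd, mapA_snd_assoc]
  let fX : pullback (f ≫ pullback.snd a b) β ⟶ X := pullback.fst (f ≫ pullback.snd a b) β
  let sX : pullback (f ≫ pullback.snd a b) β ⟶ B₁ := pullback.snd (f ≫ pullback.snd a b) β
  have hX : IsPullback fX sX (f ≫ pullback.snd a b) β := IsPullback.of_hasPullback _ _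
  have hS : IsPullback mS (pullback.snd a (β ≫ b)) (pullback.snd a b) β := isPullback_mapB a b β
  let t : pullback (f ≫ pullback.snd a b) β ⟶ pullback a (β ≫ b) :=
    hS.lift (fX ≫ f) sX (by rw [Category.assoc, hX.w])
  have ht1 : t ≫ mS = fX ≫ f := hS.lift_fst _ _ _
  have ht2 : t ≫ pullback.snd a (β ≫ b) = sX := hS.lift_snd _ _ _
  have ht : IsPullback fX t f mS := by
    refine IsPullback.of_bot ?_ ht1.symm hS
    rw [ht2]
    exact hX
  obtain ⟨u, hu⟩ := exists_u f j0 D0 m pr YA E E₀ x₀ hx₀ e0 e mS j1 hj fX t ht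
  have htf : IsFinite t := MorphismProperty.of_isPullback ht inferInstance
  have hj1 : IsOpenImmersion j1 :=
    MorphismProperty.of_isPullback (isPullback_mapA A.ι a (β ≫ b)) inferInstance
  have hE : IsPullback (pullback.fst YA.hom pr) (pullback.snd YA.hom pr ≫ j1) F
      (pullback.fst a (β ≫ b)) := by
    rw [← hF]
    exact (IsPullback.of_hasPullback YA.hom pr).paste_vert (isPullback_mapA A.ι a (β ≫ b))
  have hε1 : IsFinite (pullback.snd YA.hom pr) :=
    MorphismProperty.pullback_snd _ _ YA.prop.1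
  have hε2 : Etale (pullback.snd YA.hom pr) :=
    MorphismProperty.pullback_snd _ _ YA.prop.2
  let D1 : (pullback (A.ι ≫ a) (β ≫ b)).Opens := m ⁻¹ᵁ D0
  have hD1 : QuasiCompact D1.ι := ‹_›
  have hD1' : IsIso D1.ι.fromNormalization := ‹_›
  let i : pullback (pullback.snd YA.hom pr) D1.ι ⟶ pullback YA.hom pr := pullback.fst _ _
  have hi : IsIso i.fromNormalization := by
    have h1 : IsIso (pullback.snd D1.ι (pullback.snd YA.hom pr)).fromNormalization := by
      rw [← Scheme.Hom.normalizationPullback_snd]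
      infer_instance
    obtain ⟨n, hn⟩ := Groth.Agent.Pi1.H6.ExtIff.exists_iso_normalization
      (pullbackSymmetry (pullback.snd YA.hom pr) D1.ι) i
      (pullback.snd D1.ι (pullback.snd YA.hom pr)) (pullbackSymmetry_hom_comp_snd _ _)
    rw [← hn]
    infer_instance
  let G₁ : pullback (pullback.snd YA.hom pr) D1.ι ⟶ D1 := pullback.snd _ _
  have hG₁ : IsIntegralHom G₁ := inferInstance
  have hsm : Smooth (pullback.fst a (β ≫ b)) := inferInstance
  obtain ⟨ν, hν1, hν2, hν3⟩ := NormGlue.glue (pullback.fst a (β ≫ b)) F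
    (pullback.fst (F.fromNormalization ≫ a) (β ≫ b)) (mapA F.fromNormalization a (β ≫ b))
    (isPullback_mapA F.fromNormalization a (β ≫ b)) (pullback.fst YA.hom pr)
    (pullback.snd YA.hom pr ≫ j1) hE i G₁ (D1.ι ≫ j1)
    (by rw [← Category.assoc, ← Category.assoc]; exact congrArg (· ≫ j1) pullback.condition)
    t u hu
  have htg : t ≫ pullback.fst a (β ≫ b) = fX ≫ f ≫ pullback.fst a b := by
    have h1 : mS ≫ pullback.fst a b = pullback.fst a (β ≫ b) := mapB_fst a b β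
    rw [← h1, ← Category.assoc, ht1, Category.assoc]
  refine ⟨ν, ?_, ?_, ?_, t ⁻¹ᵁ (D1.ι ≫ j1).opensRange, ?_, hν3, hν2⟩
  · have h1 : IsFinite (ν ≫ t) := by
      rw [hν1]
      exact MorphismProperty.of_isPullback
        (isPullback_mapA F.fromNormalization a (β ≫ b)) inferInstance
    exact isFinite_of_comp ν t
  · rw [← htg, ← Category.assoc, hν1]
    exact pullback.lift_fst _ _ _
  · change ν ≫ sX = _
    rw [← ht2, ← Category.assoc, hν1]
    exact (pullback.lift_snd _ _ _).trans (Category.comp_id _)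
  · rintro x ⟨d, hd⟩
    -- the square of open immersions
    have hsq₁ : IsPullback m j1 j0 mS := by
      refine IsPullback.of_bot ?_ hj.symm hS
      simp only [j1, j0]
      rw [mapA_snd, mapA_snd]
      exact isPullback_mapB (A.ι ≫ a) b β
    have hsq : IsPullback (m ∣_ D0) (D1.ι ≫ j1) (D0.ι ≫ j0) mS :=
      (isPullback_morphismRestrict m D0).paste_vert hsq₁
    have h1 : (D0.ι ≫ j0) d = mS (t x) := by
      rw [← Scheme.Hom.comp_apply t mS, ht1]
      exact hd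
    obtain ⟨z, hz, hz'⟩ := Scheme.Pullback.exists_preimage_pullback d (t x) h1
    refine ⟨hsq.isoPullback.inv z, ?_⟩
    rw [← Scheme.Hom.comp_apply, hsq.isoPullback_inv_snd]
    exact hz'

end K105.Assemble
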