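import Groth.Agent.Etdl.H111.ClosDim
import Groth.Agent.TopDim.K284.Basic
import Groth.Agent.Pi1C.LefReduce
import Groth.Agent.S2312
import Mathlib.AlgebraicGeometry.Geometrically.Irreducible

/-!
# Families of maximal dimension: preimages of dense opens of `P × B` are dense
-/

set_option autoImplicit false
universe u
open CategoryTheory CategoryTheory.Limits AlgebraicGeometry

namespace K105.DensePre

theorem exists_generic_generization {X : Type u} [TopologicalSpace X] [QuasiSober X] [T0Space X]
    (x : X) : ∃ ξ : X, ξ ⤳ x ∧ ∀ y : X, y ⤳ ξ → y = ξ := by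
  obtain ⟨ξ, hξ⟩ := QuasiSober.sober (isIrreducible_irreducibleComponent (x := x))
    isClosed_irreducibleComponent
  have h1 : closure ({ξ} : Set X) ∈ irreducibleComponents X := by
    rw [hξ.def]; exact irreducibleComponent_mem_irreducibleComponents x
  refine ⟨ξ, ?_, ?_⟩
  · rw [specializes_iff_mem_closure, hξ.def]; exact mem_irreducibleComponent
  · exact (Groth.Agent.S2312.closure_mem_irreducibleComponents_iff ξ).1 h1

/-- `f : X ⟶ P × B` finite with `X ⟶ B` flat and fibres of pure dimension `n = dim P`: the preimage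
of every nonempty open subset of `P × B` is dense. -/
theorem dense_preimage {k : Type u} [Field k] (n : ℕ) {P B X : Scheme.{u}}
    (a : P ⟶ Spec (CommRingCat.of k)) [SmoothOfRelativeDimension n a] [GeometricallyIrreducible a]
    (b : B ⟶ Spec (CommRingCat.of k)) [IsIntegral B]
    (f : X ⟶ pullback a b) [IsIntegralHom f] [Flat (f ≫ pullback.snd a b)]
    (hdim : ∀ c : B, ∀ Z ∈ irreducibleComponents (↥((f ≫ pullback.snd a b).fiber c) : Type u),
      topologicalKrullDim (↥Z : Type u) = (n : WithBot ℕ∞))
    (D : (pullback a b).Opens) (hD : (D : Set ↥(pullback a b)).Nonempty) :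
    Dense ((f ⁻¹ᵁ D : X.Opens) : Set X) := by
  have hsm : Smooth a := SmoothOfRelativeDimension.smooth n a
  rw [dense_iff_inter_open]
  rintro O hO ⟨x, hx⟩
  let g : X ⟶ B := f ≫ pullback.snd a b
  let η : B := genericPoint B
  -- a point of `O`, minimal in `X`, over the generic point
  obtain ⟨x₁, hx₁, hgx₁⟩ := (Flat.generalizingMap g) (genericPoint_specializes (g x))
  obtain ⟨ξ, hξ, hξmin⟩ := exists_generic_generization x₁
  have hgξ : g ξ = η := by
    have h1 : g ξ ⤳ η := by
      have h2 : g ξ ⤳ g x₁ := hξ.map g.continuous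
      rwa [hgx₁] at h2
    exact (h1.antisymm (genericPoint_specializes (g ξ))).eq
  have hξO : ξ ∈ O := (hξ.trans hx₁).mem_open hO hx
  refine ⟨ξ, hξO, ?_⟩
  -- the fibre
  obtain ⟨z, hz⟩ : ∃ z : g.fiber η, g.fiberι η z = ξ := by
    have h1 : ξ ∈ Set.range (g.fiberι η) := by
      rw [Scheme.Hom.range_fiberι]; exact hgξ
    exact h1
  have hzc : closure ({z} : Set ↥(g.fiber η)) ∈ irreducibleComponents ↥(g.fiber η) := by
    rw [Groth.Agent.S2312.closure_mem_irreducibleComponents_iff]
    intro w hw
    apply (g.fiberι η).isEmbedding.injective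
    rw [hz]
    exact hξmin _ (by rw [← hz]; exact hw.map (g.fiberι η).continuous)
  have hzdim := hdim η _ hzc
  let q : pullback a b ⟶ B := pullback.snd a b
  let Q := q.fiber η
  -- the map on fibres
  have hsq : IsPullback (g.fiberι η) (g.fiberToSpecResidueField η) g (B.fromSpecResidueField η) :=
    IsPullback.of_hasPullback _ _
  have hsq' : IsPullback (q.fiberι η) (q.fiberToSpecResidueField η) q (B.fromSpecResidueField η) :=
    IsPullback.of_hasPullback _ _
  let φ : g.fiber η ⟶ q.fiber η := hsq'.lift (g.fiberι η ≫ f) (g.fiberToSpecResidueField η) (by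
    rw [Category.assoc]; exact hsq.w)
  have hφ1 : φ ≫ q.fiberι η = g.fiberι η ≫ f := hsq'.lift_fst _ _ _
  have hφ2 : φ ≫ q.fiberToSpecResidueField η = g.fiberToSpecResidueField η := hsq'.lift_snd _ _ _
  have hφ : IsPullback (g.fiberι η) φ f (q.fiberι η) := by
    refine IsPullback.of_bot ?_ hφ1.symm hsq'
    rw [hφ2]
    exact hsq
  have hφint : IsIntegralHom φ := MorphismProperty.of_isPullback hφ inferInstance
  have hdimz := Groth.Agent.Pi1C.LefReduce.dim_closure_eq φ z
  rw [hzdim] at hdimz
  -- the fibre of `P × B` is irreducible of dimension `n`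
  have hstab : MorphismProperty.IsStableUnderBaseChange (@SmoothOfRelativeDimension.{u} n) :=
    smoothOfRelativeDimension_isStableUnderBaseChange n
  have hsm' : SmoothOfRelativeDimension n (q.fiberToSpecResidueField η) := by
    have h1 : SmoothOfRelativeDimension n q := MorphismProperty.pullback_snd a b ‹_›
    exact MorphismProperty.of_isPullback (P := @SmoothOfRelativeDimension n) hsq' h1
  have hirr : IrreducibleSpace ↥(q.fiber η) := by
    have h1 : GeometricallyIrreducible q := inferInstance
    exact h1.geometrically_irreducibleSpace _ _ _ hsq'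
  have hQdim : topologicalKrullDim ↥(q.fiber η) = n := by
    let t : q.fiber η ⟶ Spec (CommRingCat.of (B.residueField η)) := q.fiberToSpecResidueField η
    have ht : SmoothOfRelativeDimension n t := hsm'
    exact Groth.Agent.Etdl.H111.ClosDim.topologicalKrullDim_eq t n
  have huniv : closure ({φ z} : Set ↥(q.fiber η)) = Set.univ := by
    by_contra hne
    have h1 := K284.TopDim.dim_lt_of_isClosed_of_irreducible
      (X := ↥(q.fiber η)) (by
        rw [hQdim]
        intro h
        exact ENat.coe_ne_top n (WithBot.coe_injective h)) _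
      isClosed_closure hne
    rw [hQdim, ← hdimz] at h1
    exact lt_irrefl _ h1
  -- a point of `D` over the generic point
  obtain ⟨d, hd⟩ := hD
  obtain ⟨d', hd', hqd'⟩ := (Flat.generalizingMap q) (genericPoint_specializes (q d))
  have hd'D : d' ∈ D := hd'.mem_open D.isOpen hd
  obtain ⟨w, hw⟩ : ∃ w : q.fiber η, q.fiberι η w = d' := by
    have h1 : d' ∈ Set.range (q.fiberι η) := by
      rw [Scheme.Hom.range_fiberι]; exact hqd'
    exact h1
  have h1 : φ z ⤳ w := by
    rw [specializes_iff_mem_closure, huniv]; trivial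
  have h2 : f ξ ⤳ d' := by
    have h3 := h1.map (q.fiberι η).continuous
    rwa [hw, ← Scheme.Hom.comp_apply, hφ1, Scheme.Hom.comp_apply, hz] at h3
  exact h2.mem_open D.isOpen hd'D

end K105.DensePre
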