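import Groth.Agent.BranchVar.K105.Assemble
import Groth.Agent.BranchVar.K105.DensePre
import Groth.Agent.VarietyA.RegSmoothSch
import Groth.Agent.CurvesC.RegNormal
import Groth.Agent.S0005
import Groth.Agent.S7616
import Groth.Agent.S9673

/-!
# The normalization of a family étale off a horizontal closed subset becomes constant
-/

set_option autoImplicit false
universe u
open CategoryTheory CategoryTheory.Limits AlgebraicGeometry
open Groth.Agent Groth.Agent.Pi1A.FEtAffine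

namespace K105.ConstNorm
open Assemble

theorem regular {k : Type u} [Field k] {X : Scheme.{u}} (f : X ⟶ Spec (CommRingCat.of k)) [Smooth f]
    (x : X) : IsRegularLocalRing (X.presheaf.stalk x) :=
  VarietyA.RegSmoothSch.isRegularLocalRing_stalk_of_mem_smoothLocus f x
    (by rw [f.smoothLocus_eq_top]; trivial)

theorem normal {k : Type u} [Field k] {X : Scheme.{u}} (f : X ⟶ Spec (CommRingCat.of k)) [Smooth f] :
    Pi1.IsNormalScheme X := fun x => by
  have := regular f x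
  exact ⟨CurvesC.RegNormal.isDomain _, CurvesC.RegNormal.isIntegrallyClosed _⟩

theorem exists_point {k : Type u} [Field k] [IsAlgClosed k] {T : Scheme.{u}} [hT : Nonempty T]
    (a : T ⟶ Spec (CommRingCat.of k)) [LocallyOfFiniteType a] :
    ∃ σ : Spec (CommRingCat.of k) ⟶ T, σ ≫ a = 𝟙 _ := by
  obtain ⟨t⟩ := hT
  have : JacobsonSpace T := LocallyOfFiniteType.jacobsonSpace a
  obtain ⟨z, -, hz⟩ := nonempty_inter_closedPoints (Z := (Set.univ : Set T)) ⟨t, trivial⟩ isClosed_univ.isLocallyClosed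
  exact ⟨((pointEquivClosedPoint a).symm ⟨z, hz⟩).1, ((pointEquivClosedPoint a).symm ⟨z, hz⟩).2⟩

/-- The base change of a morphism étale over `U` along a morphism to `U` is étale. -/
theorem etale_pullback {X Y D : Scheme.{u}} (f : X ⟶ Y) (U : Y.Opens) [Etale (f ∣_ U)]
    (g : D ⟶ U) (g' : D ⟶ Y) (hg : g ≫ U.ι = g') : Etale (pullback.snd f g') := by
  subst hg
  have h1 : IsPullback (f ⁻¹ᵁ U).ι (f ∣_ U) f U.ι := (isPullback_morphismRestrict f U).flip
  have h2 : IsPullback (pullback.fst f (g ≫ U.ι)) (pullback.snd f (g ≫ U.ι)) f (g ≫ U.ι) :=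
    IsPullback.of_hasPullback _ _
  have h3 : IsPullback (h1.lift (pullback.fst f (g ≫ U.ι)) (pullback.snd f (g ≫ U.ι) ≫ g)
      (by rw [h2.w, Category.assoc])) (pullback.snd f (g ≫ U.ι)) (f ∣_ U) g := by
    refine IsPullback.of_right (h₁₂ := (f ⁻¹ᵁ U).ι) ?_ (h1.lift_snd _ _ _) h1
    rw [h1.lift_fst]
    exact h2
  exact MorphismProperty.of_isPullback h3 inferInstance

theorem isFinite_fromNormalization {k : Type u} [Field k] {X Y : Scheme.{u}} (f : Y ⟶ X)
    (x : X ⟶ Spec (CommRingCat.of k)) [LocallyOfFiniteType x] [LocallyOfFiniteType f]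
    [IsReduced Y] [QuasiCompact f] [QuasiSeparated f] : IsFinite f.fromNormalization := by
  let : X.Over (Spec (CommRingCat.of k)) := ⟨x⟩
  let : Y.Over (Spec (CommRingCat.of k)) := ⟨f ≫ x⟩
  have : LocallyOfFiniteType (X ↘ (Spec (CommRingCat.of k))) := inferInstanceAs (LocallyOfFiniteType x)
  have : LocallyOfFiniteType (Y ↘ (Spec (CommRingCat.of k))) :=
    inferInstanceAs (LocallyOfFiniteType (f ≫ x))
  have : f.IsOver (Spec (CommRingCat.of k)) := ⟨rfl⟩
  exact Groth.Agent.S7616.result k X Y f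

/-- Purity: extension of the étale cover over the complement of codimension two. -/
theorem exists_ext {k : Type u} [Field k] {X PB WW : Scheme.{u}}
    (w : WW ⟶ Spec (CommRingCat.of k)) [Smooth w] [QuasiCompact w] (f : X ⟶ PB) [IsFinite f]
    (j0 : WW ⟶ PB) [IsOpenImmersion j0] (U : PB.Opens) [Etale (f ∣_ U)]
    (hU : ∀ z : WW, j0 z ∉ U → (2 : WithBot ℕ∞) ≤ ringKrullDim (PB.presheaf.stalk (j0 z))) :
    ∃ (E : FEt.Cat WW) (E₀ : FEt.Cat (j0 ⁻¹ᵁ U).toScheme) (x₀ : E₀.left ⟶ X),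
      IsPullback x₀ E₀.hom f ((j0 ⁻¹ᵁ U).ι ≫ j0) ∧
      Nonempty ((FEt.restrict (j0 ⁻¹ᵁ U).ι).obj E ≅ E₀) := by
  have h1 : Etale (pullback.snd f ((j0 ⁻¹ᵁ U).ι ≫ j0)) :=
    etale_pullback f U (j0 ∣_ U) ((j0 ⁻¹ᵁ U).ι ≫ j0) (morphismRestrict_ι j0 U)
  let E₀ : FEt.Cat (j0 ⁻¹ᵁ U).toScheme :=
    MorphismProperty.Over.mk ⊤ (pullback.snd f ((j0 ⁻¹ᵁ U).ι ≫ j0)) ⟨inferInstance, h1⟩
  have hln : IsLocallyNoetherian WW := LocallyOfFiniteType.isLocallyNoetherian w
  have hc : CompactSpace WW := (quasiCompact_iff_compactSpace (f := w)).mp inferInstance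
  have hN : IsNoetherian WW := {}
  have heq : (FEt.restrict (j0 ⁻¹ᵁ U).ι).IsEquivalence := by
    refine Groth.Agent.S0005.result WW (regular w) (j0 ⁻¹ᵁ U) fun x hx => ?_
    have h2 := hU x hx
    rwa [ringKrullDim_eq_of_ringEquiv (asIso (j0.stalkMap x)).commRingCatIsoToRingEquiv] at h2
  exact ⟨(FEt.restrict (j0 ⁻¹ᵁ U).ι).objPreimage E₀, E₀, pullback.fst _ _,
    IsPullback.of_hasPullback _ _, ⟨(FEt.restrict (j0 ⁻¹ᵁ U).ι).objObjPreimageIso E₀⟩⟩

theorem main {k : Type u} [Field k] [IsAlgClosed k] (n : ℕ) {P B X : Scheme.{u}}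
    (a : P ⟶ Spec (CommRingCat.of k)) [SmoothOfRelativeDimension n a] [QuasiCompact a]
    [GeometricallyIntegral a] (b : B ⟶ Spec (CommRingCat.of k)) [IsProper b] [Smooth b]
    [ConnectedSpace B] (f : X ⟶ pullback a b) [IsFinite f] [Flat (f ≫ pullback.snd a b)]
    (hdim : ∀ c : B, ∀ Z ∈ irreducibleComponents (↥((f ≫ pullback.snd a b).fiber c) : Type u),
      topologicalKrullDim (↥Z : Type u) = (n : WithBot ℕ∞))
    (A : P.Opens) (hA : (A : Set P).Nonempty) (U : (pullback a b).Opens) [Etale (f ∣_ U)]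
    (hU : ∀ z : ↥(pullback a b), z ∉ U → pullback.fst a b z ∈ A →
      (2 : WithBot ℕ∞) ≤ ringKrullDim ((pullback a b).presheaf.stalk z)) :
    ∃ (B' : Scheme.{u}) (β : B' ⟶ B) (_ : IsFinite β) (_ : Etale β) (_ : Surjective β)
      (Y : Scheme.{u}) (q : Y ⟶ P) (_ : IsFinite q) (_ : Pi1.IsNormalScheme Y)
      (ν : pullback (q ≫ a) (β ≫ b) ⟶ pullback (f ≫ pullback.snd a b) β),
      IsFinite ν ∧
      ν ≫ pullback.fst (f ≫ pullback.snd a b) β ≫ f ≫ pullback.fst a b =
        pullback.fst (q ≫ a) (β ≫ b) ≫ q ∧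
      ν ≫ pullback.snd (f ≫ pullback.snd a b) β = pullback.snd (q ≫ a) (β ≫ b) ∧
      ∃ V : (pullback (f ≫ pullback.snd a b) β).Opens,
        Dense (V : Set ↥(pullback (f ≫ pullback.snd a b) β)) ∧
        Dense ((ν ⁻¹ᵁ V : (pullback (q ≫ a) (β ≫ b)).Opens) :
          Set ↥(pullback (q ≫ a) (β ≫ b))) ∧
        IsIso (ν ∣_ V) := by
  have hsm : Smooth a := SmoothOfRelativeDimension.smooth n a
  have hPint : IsIntegral P := ‹GeometricallyIntegral a›.geometrically_isIntegral (K := k) (𝟙 _)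
    (𝟙 P) a IsPullback.of_id_fst
  have hPln : IsLocallyNoetherian P := LocallyOfFiniteType.isLocallyNoetherian a
  have hPc : CompactSpace P := (quasiCompact_iff_compactSpace (f := a)).mp inferInstance
  have hPN : IsNoetherian P := {}
  have hAN : Nonempty A := hA.to_subtype
  have hAirr : IrreducibleSpace A := inferInstance
  let pA : A.toScheme ⟶ Spec (CommRingCat.of k) := A.ι ≫ a
  have hBint : IsIntegral B := K532.Base.isIntegral_of_connected b
  obtain ⟨a₀, ha₀⟩ := exists_point pA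
  -- purity
  let w : pullback (A.ι ≫ a) b ⟶ Spec (CommRingCat.of k) := pullback.fst (A.ι ≫ a) b ≫ pA
  let j0 : pullback (A.ι ≫ a) b ⟶ pullback a b := mapA A.ι a b
  have hj0 : IsOpenImmersion j0 :=
    MorphismProperty.of_isPullback (isPullback_mapA A.ι a b) inferInstance
  obtain ⟨E, E₀, x₀, hx₀, ⟨e0⟩⟩ := exists_ext w f j0 U (by
    intro z hz
    refine hU _ hz ?_
    rw [← Scheme.Hom.comp_apply, mapA_fst, Scheme.Hom.comp_apply]
    exact (pullback.fst (A.ι ≫ a) b z).2)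
  obtain ⟨B₁, β, hβ1, hβ2, hβ3, hB₁, YA, ⟨e⟩⟩ := ProdCover.exists_const pA b a₀ ha₀ E
  let w1 : pullback (A.ι ≫ a) (β ≫ b) ⟶ Spec (CommRingCat.of k) :=
    pullback.fst (A.ι ≫ a) (β ≫ b) ≫ pA
  have hWc : ConnectedSpace ↥(pullback (A.ι ≫ a) b) := ProdCover.connectedSpace_prod pA b
  have hW1c : ConnectedSpace ↥(pullback (A.ι ≫ a) (β ≫ b)) :=
    ProdCover.connectedSpace_prod pA (β ≫ b)
  have hWint : IsIntegral (pullback (A.ι ≫ a) b) := K532.Base.isIntegral_of_connected w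
  have hW1int : IsIntegral (pullback (A.ι ≫ a) (β ≫ b)) := K532.Base.isIntegral_of_connected w1
  have hW1ln : IsLocallyNoetherian (pullback (A.ι ≫ a) (β ≫ b)) :=
    LocallyOfFiniteType.isLocallyNoetherian w1
  let D0 : (pullback (A.ι ≫ a) b).Opens := j0 ⁻¹ᵁ U
  have hD0 : genericPoint ↥(pullback (A.ι ≫ a) b) ∈ D0 := by
    by_contra h
    have h1 := hU (j0 (genericPoint ↥(pullback (A.ι ≫ a) b))) h (by
      rw [← Scheme.Hom.comp_apply, mapA_fst, Scheme.Hom.comp_apply]
      exact (pullback.fst (A.ι ≫ a) b _).2)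
    rw [ringKrullDim_eq_of_ringEquiv (asIso (j0.stalkMap _)).commRingCatIsoToRingEquiv] at h1
    have h2 : ringKrullDim ((pullback (A.ι ≫ a) b).presheaf.stalk
        (genericPoint ↥(pullback (A.ι ≫ a) b))) = 0 :=
      ringKrullDim_eq_zero_of_field ((pullback (A.ι ≫ a) b).functionField)
    rw [h2] at h1
    exact absurd h1 (by norm_num)
  let m : pullback (A.ι ≫ a) (β ≫ b) ⟶ pullback (A.ι ≫ a) b := ProdCover.mapB (A.ι ≫ a) b β
  have hm : Surjective m :=
    MorphismProperty.of_isPullback (isPullback_mapB (A.ι ≫ a) b β).flip inferInstance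
  have hD1 : Nonempty ↥(m ⁻¹ᵁ D0) := by
    obtain ⟨z, hz⟩ := hm.surj (genericPoint ↥(pullback (A.ι ≫ a) b))
    exact ⟨⟨z, by change m z ∈ D0; rw [hz]; exact hD0⟩⟩
  have hD1' : Nonempty ↥(m ⁻¹ᵁ D0).toScheme := hD1
  have hiso : IsIso (m ⁻¹ᵁ D0).ι.fromNormalization :=
    Pi1.H6.ExtIff.isIso_fromNormalization_of_normal (normal w1) _
  -- the finite normal scheme over `P`
  have hYA1 : IsFinite YA.hom := YA.prop.1
  have hYA2 : Etale YA.hom := YA.prop.2
  let F : YA.left ⟶ P := YA.hom ≫ A.ι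
  have hYn : Pi1.IsNormalScheme YA.left := normal (F ≫ a)
  have hYr : IsReduced YA.left := by
    have h1 : ∀ y : YA.left, _root_.IsReduced (YA.left.presheaf.stalk y) := fun y => by
      have := (hYn y).1
      infer_instance
    exact isReduced_of_isReduced_stalk _
  have hYln : IsLocallyNoetherian YA.left := LocallyOfFiniteType.isLocallyNoetherian (F ≫ a)
  have hYc : CompactSpace YA.left :=
    (quasiCompact_iff_compactSpace (f := F ≫ a)).mp inferInstance
  have hYN : IsNoetherian YA.left := {}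
  have hFf : IsFinite F.fromNormalization := isFinite_fromNormalization F a
  have hYfin : Finite ↥(irreducibleComponents ↥YA.left) :=
    (finite_irreducibleComponents_of_isNoetherian (X := YA.left)).to_subtype
  have hnorm : Pi1.IsNormalScheme F.normalization :=
    (Groth.Agent.S9673.result F hYn (locallyFinite_of_finite _)).1
  obtain ⟨ν, hν1, hν2, hν3, V, hV1, hV2, hV3⟩ := assemble a b β f A D0 E E₀ x₀ hx₀ e0 YA e F rfl
  refine ⟨B₁, β, hβ1, hβ2, hβ3, F.normalization, F.fromNormalization, hFf, hnorm, ν, hν1, hν2, hν3,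
    V, ?_, hV2, hV3⟩
  have hD := DensePre.dense_preimage n a b f hdim (D0.ι ≫ j0).opensRange
    ⟨_, ⟨⟨_, hD0⟩, rfl⟩⟩
  have hopen : IsOpenMap (pullback.fst (f ≫ pullback.snd a b) β) :=
    (pullback.fst (f ≫ pullback.snd a b) β).isOpenMap
  refine (hD.preimage hopen).mono ?_
  intro x hx
  exact hV1 x hx

end K105.ConstNorm
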