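import Mathlib.AlgebraicGeometry.Normalization
import Mathlib.AlgebraicGeometry.Morphisms.Smooth
import Groth.Agent.EtBase.K152.NormComp
import Groth.Agent.Pi1.H6.ExtIff

/-!
# Relative normalizations: base change, restriction to opens and extension of morphisms
-/

set_option autoImplicit false
universe u
open CategoryTheory CategoryTheory.Limits AlgebraicGeometry

namespace K105.NormGlue

/-- If `E ⟶ S` factors through an integral morphism to an open subscheme `D`, its relative
normalization restricted to `D` is `E`. -/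
theorem isPullback_toNormalization {E D S : Scheme.{u}} (G₁ : E ⟶ D) (δ : D ⟶ S)
    [IsOpenImmersion δ] [IsIntegralHom G₁] (G : E ⟶ S) (hG : G₁ ≫ δ = G) [QuasiCompact G]
    [QuasiSeparated G] : IsPullback G.toNormalization G₁ G.fromNormalization δ := by
  have sq : IsPullback (𝟙 E) G₁ G δ := by
    have h1 : IsPullback (𝟙 E) G₁ G₁ (𝟙 D) := IsPullback.of_horiz_isIso ⟨by simp⟩
    have h2 : IsPullback (𝟙 D) (𝟙 D) δ δ := IsKernelPair.id_of_mono δ
    have h3 := h1.paste_vert h2
    rwa [Category.comp_id, hG] at h3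
  let e := sq.isoPullback
  have he1 : e.hom ≫ pullback.fst G δ = 𝟙 E := sq.isoPullback_hom_fst
  have he2 : e.hom ≫ pullback.snd G δ = G₁ := sq.isoPullback_hom_snd
  have hint : IsIntegralHom (pullback.snd G δ) := by
    have : pullback.snd G δ = e.inv ≫ G₁ := by rw [← he2, Iso.inv_hom_id_assoc]
    rw [this]; infer_instance
  have hsm : Smooth δ := inferInstance
  let φ : E ⟶ pullback G.fromNormalization δ :=
    e.hom ≫ (pullback.snd G δ).toNormalization ≫ G.normalizationPullback δ
  have hφ : IsIso φ := inferInstance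
  have h1 : φ ≫ pullback.fst _ _ = G.toNormalization := by
    simp only [φ, Category.assoc, Scheme.Hom.toNormalization_normalizationPullback_fst]
    rw [reassoc_of% he1]
  have h2 : φ ≫ pullback.snd _ _ = G₁ := by
    simp only [φ, Category.assoc, Scheme.Hom.normalizationPullback_snd,
      Scheme.Hom.toNormalization_fromNormalization]
    exact he2
  exact IsPullback.of_iso_pullback ⟨by rw [G.toNormalization_fromNormalization, hG]⟩ (asIso φ) h1 h2

/-- The morphism from the normalization is an isomorphism over the open where the given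
factorization is an isomorphism. -/
theorem isPullback_desc {E D S T : Scheme.{u}} (G₁ : E ⟶ D) (δ : D ⟶ S)
    [IsOpenImmersion δ] [IsIntegralHom G₁] (G : E ⟶ S) (hG : G₁ ≫ δ = G) [QuasiCompact G]
    [QuasiSeparated G] (t : T ⟶ S) [IsIntegralHom t] (u : E ⟶ T) (hu : IsPullback u G₁ t δ)
    (H : G = u ≫ t) : IsPullback G.toNormalization (𝟙 E) (G.normalizationDesc u t H) u := by
  refine IsPullback.of_bot (v₂₁ := G₁) (v₂₂ := t) (h₃₁ := δ) ?_ ?_ hu
  · rw [Category.id_comp, G.normalizationDesc_comp]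
    exact isPullback_toNormalization G₁ δ G hG
  · rw [Category.id_comp, G.toNormalization_normalizationDesc]

theorem isIso_restrict {N T E : Scheme.{u}} (ν : N ⟶ T) (u : E ⟶ T) [IsOpenImmersion u]
    (m : E ⟶ N) (h : IsPullback m (𝟙 E) ν u) : IsIso (ν ∣_ u.opensRange) := by
  have h1 : IsPullback m (u.isoOpensRange.hom) ν u.opensRange.ι := by
    refine h.of_iso (Iso.refl _) (Iso.refl _) u.isoOpensRange (Iso.refl _) ?_ ?_ ?_ ?_
    · simp
    · simp
    · simp
    · simp
  have h2 := isPullback_morphismRestrict ν u.opensRange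
  have h3 : ν ∣_ u.opensRange = (h2.isoIsPullback _ _ h1.flip).hom ≫ u.isoOpensRange.hom :=
    (h2.isoIsPullback_hom_fst _ _ h1.flip).symm
  rw [h3]
  infer_instance

/-- Extension of an isomorphism of finite schemes over an open subset to a morphism from the
base changed normalization. -/
theorem glue {P S YA E' ED D X' N : Scheme.{u}} (g : S ⟶ P) [Smooth g] (F : YA ⟶ P)
    [QuasiCompact F] [QuasiSeparated F] (nY : N ⟶ F.normalization) (nS : N ⟶ S)
    (hN : IsPullback nY nS F.fromNormalization g) (eY : E' ⟶ YA) (eS : E' ⟶ S)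
    (hE : IsPullback eY eS F g) (i : ED ⟶ E') [QuasiCompact i] [QuasiSeparated i]
    [IsIso i.fromNormalization] (G₁ : ED ⟶ D) [IsIntegralHom G₁] (δ : D ⟶ S) [IsOpenImmersion δ]
    (hi : i ≫ eS = G₁ ≫ δ) (t : X' ⟶ S) [IsIntegralHom t] (u : ED ⟶ X')
    (hu : IsPullback u G₁ t δ) :
    ∃ ν : N ⟶ X', ν ≫ t = nS ∧ IsIso (ν ∣_ (t ⁻¹ᵁ δ.opensRange)) ∧
      Dense ((ν ⁻¹ᵁ (t ⁻¹ᵁ δ.opensRange) : N.Opens) : Set N) := by
  have hoi : IsOpenImmersion u := MorphismProperty.of_isPullback hu.flip inferInstance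
  have hrange : u.opensRange = t ⁻¹ᵁ δ.opensRange := by
    ext x
    constructor
    · rintro ⟨y, rfl⟩
      refine ⟨G₁ y, ?_⟩
      rw [← Scheme.Hom.comp_apply, ← Scheme.Hom.comp_apply, hu.w]
    · rintro ⟨y, hy⟩
      obtain ⟨z, hz, -⟩ := Scheme.Pullback.exists_preimage_pullback (f := t) (g := δ) x y hy.symm
      refine ⟨hu.isoPullback.inv z, ?_⟩
      rw [← Scheme.Hom.comp_apply, hu.isoPullback_inv_fst]
      exact hz
  -- `E' ⟶ S` is quasi-compact and quasi-separated
  have qc : QuasiCompact eS := MorphismProperty.of_isPullback hE inferInstance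
  have qs : QuasiSeparated eS := MorphismProperty.of_isPullback hE inferInstance
  -- the normalization of `S` in `E'` is `N`
  let e₁ : E' ≅ pullback F g := hE.isoPullback
  have he₁ : e₁.hom ≫ pullback.snd F g = eS := hE.isoPullback_hom_snd
  obtain ⟨n₁, hn₁⟩ := Groth.Agent.Pi1.H6.ExtIff.exists_iso_normalization e₁ eS (pullback.snd F g) he₁
  let n₂ : (pullback.snd F g).normalization ≅ pullback F.fromNormalization g :=
    asIso (F.normalizationPullback g)
  have hn₂ : n₂.hom ≫ pullback.snd _ _ = (pullback.snd F g).fromNormalization :=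
    F.normalizationPullback_snd g
  let n₃ : pullback F.fromNormalization g ≅ N := hN.isoPullback.symm
  have hn₃ : n₃.hom ≫ nS = pullback.snd _ _ := hN.isoPullback_inv_snd
  -- the normalization of `S` in `ED` is also `N`
  let G : ED ⟶ S := i ≫ eS
  obtain ⟨n₀, hn₀, -⟩ := K152.NormComp.exists_iso i eS
  let n : (i ≫ eS).normalization ≅ N := n₀ ≪≫ n₁ ≪≫ n₂ ≪≫ n₃
  have hn : n.hom ≫ nS = (i ≫ eS).fromNormalization := by
    simp only [n, Iso.trans_hom, Category.assoc]
    rw [hn₃, hn₂, hn₁, hn₀]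
  have H : i ≫ eS = u ≫ t := by rw [hi, hu.w]
  let ν₀ : (i ≫ eS).normalization ⟶ X' := (i ≫ eS).normalizationDesc u t H
  have hν₀ : ν₀ ≫ t = (i ≫ eS).fromNormalization := (i ≫ eS).normalizationDesc_comp _ _ H
  have hsq := isPullback_desc G₁ δ (i ≫ eS) hi.symm t u hu H
  have hsq' : IsPullback ((i ≫ eS).toNormalization ≫ n.hom) (𝟙 ED) (n.inv ≫ ν₀) u := by
    refine hsq.of_iso (Iso.refl _) n (Iso.refl _) (Iso.refl _) ?_ ?_ ?_ ?_
    · simp
    · simp
    · simp [ν₀]
    · simp
  refine ⟨n.inv ≫ ν₀, ?_, ?_, ?_⟩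
  · rw [Category.assoc, hν₀, Iso.inv_comp_eq, hn]
  · rw [← hrange]
    exact isIso_restrict _ u _ hsq'
  · have hd : IsDominant ((i ≫ eS).toNormalization ≫ n.hom) := inferInstance
    refine hd.denseRange.mono ?_
    rintro _ ⟨y, rfl⟩
    rw [← hrange]
    change (n.inv ≫ ν₀) (((i ≫ eS).toNormalization ≫ n.hom) y) ∈ u.opensRange
    rw [← Scheme.Hom.comp_apply, hsq'.w, Category.id_comp]
    exact ⟨y, rfl⟩

end K105.NormGlue
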